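import Mathlib

/-!
# The local Artinian subring `k₀ + 𝔪` of a local Artinian ring (helper8, S18017/S18018)

For a local Artinian ring `C`, a surjection `ρ : C → K` onto a field and a subfield `k₀ ⊆ K`
with `K` finite over `k₀`, the subring `ρ⁻¹(k₀)` is again local Artinian.
-/

set_option autoImplicit false
universe u

open IsLocalRing

namespace Groth.Agent.H8.ArtSub

variable {C : Type u} [CommRing C] [IsLocalRing C]
  {K : Type u} [Field K] (ρ : C →+* K) (k₀ : Subfield K)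

/-- The subring of elements whose image in `K` lies in `k₀`. -/
def sub : Subring C := k₀.toSubring.comap ρ

theorem mem_sub {c : C} : c ∈ sub ρ k₀ ↔ ρ c ∈ k₀ := Iff.rfl

variable {ρ} (hρ : Function.Surjective ρ)

include hρ

theorem ker_eq : RingHom.ker ρ = maximalIdeal C :=
  IsLocalRing.eq_maximalIdeal (RingHom.ker_isMaximal_of_surjective ρ hρ)

theorem isUnit_of_ne (a : sub ρ k₀) (ha : ρ a.1 ≠ 0) : IsUnit a := by
  have h1 : a.1 ∉ maximalIdeal C := by
    rw [← ker_eq hρ, RingHom.mem_ker]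
    exact ha
  obtain ⟨v, hv⟩ := IsLocalRing.notMem_maximalIdeal.mp h1
  have h2 : ρ (↑v⁻¹ : C) = (ρ a.1)⁻¹ := by
    apply eq_inv_of_mul_eq_one_right
    rw [← map_mul, ← hv, Units.mul_inv, map_one]
  have h3 : (↑v⁻¹ : C) ∈ sub ρ k₀ := by
    rw [mem_sub, h2]
    exact inv_mem a.2
  refine isUnit_iff_exists_inv.2 ⟨⟨_, h3⟩, Subtype.ext ?_⟩
  show a.1 * ↑v⁻¹ = 1
  rw [← hv, Units.mul_inv]

theorem ne_of_isUnit (a : sub ρ k₀) (ha : IsUnit a) : ρ a.1 ≠ 0 := by
  have h1 : IsUnit a.1 := ha.map (sub ρ k₀).subtype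
  exact (h1.map ρ).ne_zero

theorem isLocalRing_sub : IsLocalRing (sub ρ k₀) := by
  refine IsLocalRing.of_isUnit_or_isUnit_one_sub_self (fun a => ?_)
  by_cases ha : ρ a.1 = 0
  · right
    apply isUnit_of_ne k₀ hρ
    show ρ ((1 : C) - a.1) ≠ 0
    rw [map_sub, ha, map_one, sub_zero]
    exact one_ne_zero
  · left
    exact isUnit_of_ne k₀ hρ a ha

theorem isLocalHom_subtype : IsLocalHom (sub ρ k₀).subtype :=
  ⟨fun a ha => isUnit_of_ne k₀ hρ a (ha.map ρ).ne_zero⟩

theorem mem_maximalIdeal_iff [IsLocalRing (sub ρ k₀)] (a : sub ρ k₀) :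
    a ∈ maximalIdeal (sub ρ k₀) ↔ ρ a.1 = 0 := by
  rw [IsLocalRing.mem_maximalIdeal, mem_nonunits_iff]
  constructor
  · intro h
    by_contra h'
    exact h (isUnit_of_ne k₀ hρ a h')
  · intro h h'
    exact ne_of_isUnit k₀ hρ a h' h

theorem exists_lift (z : k₀) : ∃ l : sub ρ k₀, ρ l.1 = z.1 := by
  obtain ⟨c, hc⟩ := hρ z.1
  exact ⟨⟨c, by rw [mem_sub, hc]; exact z.2⟩, hc⟩

theorem finite_over_sub [Module.Finite k₀ K] : Module.Finite (sub ρ k₀) C := by
  classical
  obtain ⟨n, s, hs⟩ := Module.Finite.exists_fin (R := k₀) (M := K)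
  choose y hy using fun j => hρ (s j)
  refine ⟨⟨(Finset.univ.image y) ∪ {1}, ?_⟩⟩
  rw [eq_top_iff]
  intro c _
  have hc : ρ c ∈ Submodule.span k₀ (Set.range s) := by rw [hs]; trivial
  obtain ⟨lam, hlam⟩ := (Submodule.mem_span_range_iff_exists_fun k₀).1 hc
  choose l hl using fun j => exists_lift k₀ hρ (lam j)
  have hd : ρ (c - ∑ j, (l j).1 * y j) = 0 := by
    rw [map_sub, map_sum, ← hlam, sub_eq_zero]
    refine Finset.sum_congr rfl (fun j _ => ?_)
    rw [map_mul, hl, hy]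
    rfl
  have hd' : c - ∑ j, (l j).1 * y j ∈ sub ρ k₀ := by
    rw [mem_sub, hd]
    exact zero_mem _
  have hc' : c = ∑ j, l j • y j + (⟨_, hd'⟩ : sub ρ k₀) • (1 : C) := by
    have : ∀ j, l j • y j = (l j).1 * y j := fun j => rfl
    simp only [this]
    show c = ∑ j, (l j).1 * y j + (c - ∑ j, (l j).1 * y j) * 1
    ring
  rw [hc']
  refine Submodule.add_mem _ (Submodule.sum_mem _ (fun j _ => ?_)) ?_
  · refine Submodule.smul_mem _ _ (Submodule.subset_span ?_)
    simp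
  · refine Submodule.smul_mem _ _ (Submodule.subset_span ?_)
    simp

theorem fg_maximalIdeal [IsNoetherianRing C] [Module.Finite k₀ K] [IsLocalRing (sub ρ k₀)] :
    (maximalIdeal (sub ρ k₀)).FG := by
  haveI : Module.Finite (sub ρ k₀) C := finite_over_sub k₀ hρ
  haveI : Module.Finite C (maximalIdeal C) := Module.IsNoetherian.finite C _
  haveI : Module.Finite (sub ρ k₀) (maximalIdeal C) := Module.Finite.trans C _
  -- the `sub`-linear surjection `𝔪_C → 𝔪_{sub}`
  have hmem : ∀ x : maximalIdeal C, x.1 ∈ sub ρ k₀ := by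
    intro x
    have : ρ x.1 = 0 := by rw [← RingHom.mem_ker, ker_eq hρ]; exact x.2
    rw [mem_sub, this]
    exact zero_mem _
  have hmem' : ∀ x : maximalIdeal C, (⟨x.1, hmem x⟩ : sub ρ k₀) ∈ maximalIdeal (sub ρ k₀) := by
    intro x
    rw [mem_maximalIdeal_iff k₀ hρ, ← RingHom.mem_ker, ker_eq hρ]
    exact x.2
  let f : maximalIdeal C →ₗ[sub ρ k₀] maximalIdeal (sub ρ k₀) :=
    { toFun := fun x => ⟨⟨x.1, hmem x⟩, hmem' x⟩
      map_add' := fun x y => rfl
      map_smul' := fun r x => rfl }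
  have hf : Function.Surjective f := by
    rintro ⟨a, ha⟩
    have : a.1 ∈ maximalIdeal C := by
      rw [← ker_eq hρ, RingHom.mem_ker]
      exact (mem_maximalIdeal_iff k₀ hρ a).1 ha
    exact ⟨⟨a.1, this⟩, rfl⟩
  haveI : Module.Finite (sub ρ k₀) (maximalIdeal (sub ρ k₀)) := Module.Finite.of_surjective f hf
  exact (Submodule.fg_top _).1 (Module.Finite.fg_top)

theorem isArtinianRing_sub [IsArtinianRing C] [Module.Finite k₀ K] :
    IsArtinianRing (sub ρ k₀) := by
  haveI := isLocalRing_sub k₀ hρ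
  -- the maximal ideal is nilpotent
  obtain ⟨n, hn⟩ : IsNilpotent (maximalIdeal C) := by
    have := IsArtinianRing.isNilpotent_jacobson_bot (R := C)
    rwa [IsLocalRing.jacobson_eq_maximalIdeal ⊥ bot_ne_top] at this
  have hnil : maximalIdeal (sub ρ k₀) ^ n = ⊥ := by
    rw [eq_bot_iff]
    intro x hx
    have h1 : (sub ρ k₀).subtype x ∈ Ideal.map (sub ρ k₀).subtype (maximalIdeal (sub ρ k₀) ^ n) :=
      Ideal.mem_map_of_mem _ hx
    rw [Ideal.map_pow] at h1
    have h2 : Ideal.map (sub ρ k₀).subtype (maximalIdeal (sub ρ k₀)) ≤ maximalIdeal C := by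
      rw [Ideal.map_le_iff_le_comap]
      intro a ha
      rw [Ideal.mem_comap, ← ker_eq hρ, RingHom.mem_ker]
      exact (mem_maximalIdeal_iff k₀ hρ a).1 ha
    have h3 := Ideal.pow_right_mono h2 n h1
    rw [hn] at h3
    exact Subtype.ext h3
  have hprime : ∀ P : Ideal (sub ρ k₀), P.IsPrime → P = maximalIdeal (sub ρ k₀) := by
    intro P hP
    refine le_antisymm (IsLocalRing.le_maximalIdeal hP.ne_top) (fun x hx => ?_)
    have : x ^ n ∈ maximalIdeal (sub ρ k₀) ^ n := Ideal.pow_mem_pow hx n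
    rw [hnil] at this
    exact hP.mem_of_pow_mem n (by rw [this]; exact P.zero_mem)
  haveI : IsNoetherianRing (sub ρ k₀) := by
    refine IsNoetherianRing.of_prime (fun P hP => ?_)
    rw [hprime P hP]
    exact fg_maximalIdeal k₀ hρ
  rw [isArtinianRing_iff_isNilpotent_maximalIdeal]
  exact ⟨n, hnil⟩

end Groth.Agent.H8.ArtSub
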