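import Mathlib
import Groth.Agent.Lib.Helper8.ArtSub.Alg

/-!
# Morphisms from spectra of local rings and local subrings (helper8, S18017/S18018)
-/

set_option autoImplicit false
universe u

open CategoryTheory AlgebraicGeometry IsLocalRing

namespace Groth.Agent.H8.ArtSub

variable {X : Scheme.{u}}

/-- Naturality of `stalkClosedPointTo` in the local ring. -/
theorem scp_comp_SpecMap {R R' : CommRingCat.{u}} [IsLocalRing R] [IsLocalRing R']
    (θ : R' ⟶ R) [IsLocalHom θ.hom] (f : Spec R' ⟶ X) (a : Spec R ⟶ X)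
    (h : Spec.map θ ≫ f = a) :
    ∃ h₁ : a (closedPoint R) = f (closedPoint R'),
      Scheme.stalkClosedPointTo a =
        (X.presheaf.stalkCongr (by rw [h₁]; rfl)).hom ≫ Scheme.stalkClosedPointTo f ≫ θ := by
  subst h
  have hloc : IsLocalHom (Scheme.stalkClosedPointTo f ≫ θ).hom := by
    rw [CommRingCat.hom_comp]
    exact RingHom.isLocalHom_comp _ _
  have e1 : (SpecToEquivOfLocalRing X R).symm
      ⟨f (closedPoint R'), Scheme.stalkClosedPointTo f ≫ θ, hloc⟩ = Spec.map θ ≫ f := by
    show Spec.map (Scheme.stalkClosedPointTo f ≫ θ) ≫ X.fromSpecStalk _ = _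
    rw [Spec.map_comp, Category.assoc, Scheme.Spec_stalkClosedPointTo_fromSpecStalk]
  have key := (SpecToEquivOfLocalRing X R).apply_symm_apply
    ⟨f (closedPoint R'), Scheme.stalkClosedPointTo f ≫ θ, hloc⟩
  rw [e1] at key
  exact SpecToEquivOfLocalRing_eq_iff.mp key

theorem stalkCongr_cancel {x y z : X} (h₁ : z = x) (h₂ : z = y) {R : CommRingCat.{u}}
    (p : X.presheaf.stalk x ⟶ R) (q : X.presheaf.stalk y ⟶ R)
    (h : (X.presheaf.stalkCongr (Inseparable.of_eq h₁)).hom ≫ p =
      (X.presheaf.stalkCongr (Inseparable.of_eq h₂)).hom ≫ q) :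
    p = (X.presheaf.stalkCongr (Inseparable.of_eq (h₁.symm.trans h₂))).hom ≫ q := by
  subst h₁
  subst h₂
  simpa using h

/-- `Spec` of an injective local homomorphism of local rings is an epimorphism of schemes. -/
theorem epi_SpecMap {R R' : CommRingCat.{u}} [IsLocalRing R] [IsLocalRing R']
    (θ : R' ⟶ R) [IsLocalHom θ.hom] (hθ : Function.Injective θ.hom) (v w : Spec R' ⟶ X)
    (h : Spec.map θ ≫ v = Spec.map θ ≫ w) : v = w := by
  obtain ⟨h₁, e₁⟩ := scp_comp_SpecMap θ v _ rfl
  obtain ⟨h₂, e₂⟩ := scp_comp_SpecMap θ w _ h.symm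
  haveI : Mono θ := ConcreteCategory.mono_of_injective θ hθ
  apply (SpecToEquivOfLocalRing X R').injective
  refine SpecToEquivOfLocalRing_eq_iff.mpr ⟨h₁.symm.trans h₂, ?_⟩
  show Scheme.stalkClosedPointTo v = _ ≫ Scheme.stalkClosedPointTo w
  have e3 := stalkCongr_cancel h₁ h₂ _ _ (e₁.symm.trans e₂)
  rw [← Category.assoc] at e3
  exact (cancel_mono θ).mp e3

/-- Factor a morphism from the spectrum of a local ring through the spectrum of a subring
containing the image of the local ring of the target. -/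
theorem exists_factor {C : Type u} [CommRing C] [IsLocalRing C] (C₀ : Subring C)
    (a : Spec (CommRingCat.of C) ⟶ X)
    (h : ∀ r, (Scheme.stalkClosedPointTo a).hom r ∈ C₀) :
    ∃ a₀ : Spec (CommRingCat.of C₀) ⟶ X,
      Spec.map (CommRingCat.ofHom C₀.subtype) ≫ a₀ = a := by
  refine ⟨Spec.map (CommRingCat.ofHom ((Scheme.stalkClosedPointTo a).hom.codRestrict C₀ h)) ≫
    X.fromSpecStalk _, ?_⟩
  rw [← Category.assoc, ← Spec.map_comp]
  have : CommRingCat.ofHom ((Scheme.stalkClosedPointTo a).hom.codRestrict C₀ h) ≫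
      CommRingCat.ofHom C₀.subtype = Scheme.stalkClosedPointTo a := by
    ext r
    rfl
  rw [this, Scheme.Spec_stalkClosedPointTo_fromSpecStalk]

/-- The residue field map at the closed point in terms of `stalkClosedPointTo`. -/
theorem resMap_eq {R : CommRingCat.{u}} [IsLocalRing R] (f : Spec R ⟶ X) :
    IsLocalRing.ResidueField.map (Scheme.stalkClosedPointTo f).hom =
      (IsLocalRing.ResidueField.map (stalkClosedPointIso R).hom.hom).comp
        (f.residueFieldMap (closedPoint R)).hom := by
  refine RingHom.ext (fun x => ?_)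
  obtain ⟨r, rfl⟩ := IsLocalRing.residue_surjective x
  rfl

theorem theta_surjective (R : CommRingCat.{u}) [IsLocalRing R] :
    Function.Surjective (IsLocalRing.ResidueField.map (stalkClosedPointIso R).hom.hom) := by
  intro w
  obtain ⟨c, rfl⟩ := IsLocalRing.residue_surjective w
  refine ⟨IsLocalRing.residue ((Spec R).presheaf.stalk (closedPoint R))
    ((stalkClosedPointIso R).inv.hom c), ?_⟩
  rw [IsLocalRing.ResidueField.map_residue]
  congr 1
  exact congrArg (fun φ : R ⟶ R => φ.hom c) (stalkClosedPointIso R).inv_hom_id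

theorem surjective_residueFieldMap_of {R : CommRingCat.{u}} [IsLocalRing R] (f : Spec R ⟶ X)
    (h : Function.Surjective (IsLocalRing.ResidueField.map (Scheme.stalkClosedPointTo f).hom)) :
    Function.Surjective (f.residueFieldMap (closedPoint R)).hom := by
  intro w
  obtain ⟨y, hy⟩ := h (IsLocalRing.ResidueField.map (stalkClosedPointIso R).hom.hom w)
  rw [resMap_eq] at hy
  exact ⟨y, (IsLocalRing.ResidueField.map (stalkClosedPointIso R).hom.hom).injective hy⟩

theorem surjective_resMap_of {R : CommRingCat.{u}} [IsLocalRing R] (f : Spec R ⟶ X)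
    (h : Function.Surjective (f.residueFieldMap (closedPoint R)).hom) :
    Function.Surjective (IsLocalRing.ResidueField.map (Scheme.stalkClosedPointTo f).hom) := by
  intro w
  obtain ⟨z, hz⟩ := theta_surjective R w
  obtain ⟨y, hy⟩ := h z
  refine ⟨y, ?_⟩
  rw [resMap_eq]
  show IsLocalRing.ResidueField.map (stalkClosedPointIso R).hom.hom
    ((f.residueFieldMap (closedPoint R)).hom y) = w
  rw [hy, hz]

theorem finite_resMap_of {R : CommRingCat.{u}} [IsLocalRing R] (f : Spec R ⟶ X)
    (h : (f.residueFieldMap (closedPoint R)).hom.Finite) :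
    (IsLocalRing.ResidueField.map (Scheme.stalkClosedPointTo f).hom).Finite := by
  rw [resMap_eq]
  exact RingHom.Finite.comp (RingHom.Finite.of_surjective _ (theta_surjective R)) h

end Groth.Agent.H8.ArtSub
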