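import Mathlib
import Groth.Agent.Lib.Helper8.ArtSub.Sch

/-!
# Formal versality implies lifting for finite residue field extensions (helper8, S18017/S18018)
-/

set_option autoImplicit false
universe u

open CategoryTheory AlgebraicGeometry IsLocalRing

namespace Groth.Agent.H8.ArtSub

theorem core {S T : Scheme.{u}} (g : T ⟶ S) (t : T)
    (hT : ∀ (C C' : Type u) [CommRing C] [CommRing C'] [IsLocalRing C] [IsLocalRing C']
        [IsArtinianRing C] [IsArtinianRing C'] (π : C' →+* C), Function.Surjective π →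
        ∀ (a : Spec (CommRingCat.of C) ⟶ T) (b : Spec (CommRingCat.of C') ⟶ S),
          a (IsLocalRing.closedPoint C) = t →
          Function.Surjective (a.residueFieldMap (IsLocalRing.closedPoint C)).hom →
          Spec.map (CommRingCat.ofHom π) ≫ b = a ≫ g →
          ∃ c : Spec (CommRingCat.of C') ⟶ T,
            Spec.map (CommRingCat.ofHom π) ≫ c = a ∧ c ≫ g = b)
    (C C' : Type u) [CommRing C] [CommRing C'] [IsLocalRing C] [IsLocalRing C']
    [IsArtinianRing C] [IsArtinianRing C'] (π : C' →+* C) (hπ : Function.Surjective π)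
    (a : Spec (CommRingCat.of C) ⟶ T) (b : Spec (CommRingCat.of C') ⟶ S)
    (ha : a (IsLocalRing.closedPoint C) = t)
    (hfin : (IsLocalRing.ResidueField.map (Scheme.stalkClosedPointTo a).hom).Finite)
    (hcomm : Spec.map (CommRingCat.ofHom π) ≫ b = a ≫ g) :
    ∃ c : Spec (CommRingCat.of C') ⟶ T,
      Spec.map (CommRingCat.ofHom π) ≫ c = a ∧ c ≫ g = b := by
  let κT := ResidueField (T.presheaf.stalk (a (closedPoint C)))
  let j : κT →+* ResidueField C :=
    IsLocalRing.ResidueField.map (Scheme.stalkClosedPointTo a).hom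
  let k₀ : Subfield (ResidueField C) := j.fieldRange
  have hρ : Function.Surjective (residue C) := residue_surjective
  have hρ' : Function.Surjective ((residue C).comp π) := hρ.comp hπ
  haveI : Module.Finite k₀ (ResidueField C) := by
    letI := j.toAlgebra
    haveI : Module.Finite κT (ResidueField C) := hfin
    letI : Algebra κT k₀ := j.rangeRestrictField.toAlgebra
    haveI : IsScalarTower κT k₀ (ResidueField C) :=
      IsScalarTower.of_algebraMap_eq (fun x => rfl)
    exact Module.Finite.of_restrictScalars_finite κT k₀ (ResidueField C)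
  haveI : IsLocalRing (sub (residue C) k₀) := isLocalRing_sub k₀ hρ
  haveI : IsLocalRing (sub ((residue C).comp π) k₀) := isLocalRing_sub k₀ hρ'
  haveI : IsArtinianRing (sub (residue C) k₀) := isArtinianRing_sub k₀ hρ
  haveI : IsArtinianRing (sub ((residue C).comp π) k₀) := isArtinianRing_sub k₀ hρ'
  haveI hl1 : IsLocalHom (sub (residue C) k₀).subtype := isLocalHom_subtype k₀ hρ
  haveI hl2 : IsLocalHom (sub ((residue C).comp π) k₀).subtype := isLocalHom_subtype k₀ hρ'
  haveI hl3 : IsLocalHom π := IsLocalHom.of_surjective π hπ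
  haveI : IsLocalHom (CommRingCat.ofHom (sub (residue C) k₀).subtype).hom := hl1
  haveI : IsLocalHom (CommRingCat.ofHom (sub ((residue C).comp π) k₀).subtype).hom := hl2
  haveI : IsLocalHom (CommRingCat.ofHom π).hom := hl3
  -- factor `a`
  obtain ⟨a₀, ha₀⟩ := exists_factor (sub (residue C) k₀) a (fun r => by
    rw [mem_sub]
    exact ⟨residue _ r, IsLocalRing.ResidueField.map_residue _ r⟩)
  obtain ⟨h₁, e₁⟩ := scp_comp_SpecMap (CommRingCat.ofHom (sub (residue C) k₀).subtype) a₀ a ha₀
  have ha₀t : a₀ (closedPoint (sub (residue C) k₀)) = t := h₁.symm.trans ha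
  have hsurj₀ : Function.Surjective
      (a₀.residueFieldMap (closedPoint (sub (residue C) k₀))).hom := by
    refine surjective_residueFieldMap_of a₀ ?_
    intro w
    obtain ⟨c₀, rfl⟩ := IsLocalRing.residue_surjective w
    obtain ⟨z, hz⟩ : ∃ z, j z = residue C c₀.1 := c₀.2
    obtain ⟨r, rfl⟩ := IsLocalRing.residue_surjective z
    have hz' : residue C ((Scheme.stalkClosedPointTo a).hom r) = residue C c₀.1 := by
      rw [← hz]
      exact (IsLocalRing.ResidueField.map_residue _ r).symm
    have e1r := congrArg (fun ψ => ψ.hom r) e₁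
    refine ⟨residue _ ((T.presheaf.stalkCongr (Inseparable.of_eq h₁)).hom.hom r), ?_⟩
    rw [IsLocalRing.ResidueField.map_residue]
    refine Ideal.Quotient.eq.2 ?_
    rw [mem_maximalIdeal_iff k₀ hρ]
    show residue C (((Scheme.stalkClosedPointTo a₀).hom
      ((T.presheaf.stalkCongr (Inseparable.of_eq h₁)).hom.hom r)).1 - c₀.1) = 0
    rw [map_sub, sub_eq_zero, ← hz']
    exact congrArg (residue C) e1r.symm
  -- factor `b`
  obtain ⟨h₂, e₂⟩ := scp_comp_SpecMap (CommRingCat.ofHom π) b (a ≫ g) hcomm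
  rw [Scheme.stalkClosedPointTo_comp] at e₂
  obtain ⟨b₀, hb₀⟩ := exists_factor (sub ((residue C).comp π) k₀) b (fun r => by
    rw [mem_sub]
    have e2r := congrArg (fun ψ => ψ.hom ((S.presheaf.stalkCongr (Inseparable.of_eq h₂)).inv.hom r)) e₂
    have e3 : (S.presheaf.stalkCongr (Inseparable.of_eq h₂)).hom.hom
        ((S.presheaf.stalkCongr (Inseparable.of_eq h₂)).inv.hom r) = r :=
      congrArg (fun ψ => ψ.hom r) (S.presheaf.stalkCongr (Inseparable.of_eq h₂)).inv_hom_id
    have e4 : π ((Scheme.stalkClosedPointTo b).hom r) =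
        (Scheme.stalkClosedPointTo a).hom ((g.stalkMap (a (closedPoint C))).hom
          ((S.presheaf.stalkCongr (Inseparable.of_eq h₂)).inv.hom r)) := by
      have e5 : π ((Scheme.stalkClosedPointTo b).hom
          ((S.presheaf.stalkCongr (Inseparable.of_eq h₂)).hom.hom
            ((S.presheaf.stalkCongr (Inseparable.of_eq h₂)).inv.hom r))) =
          (Scheme.stalkClosedPointTo a).hom ((g.stalkMap (a (closedPoint C))).hom
            ((S.presheaf.stalkCongr (Inseparable.of_eq h₂)).inv.hom r)) := e2r.symm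
      rwa [e3] at e5
    show residue C (π ((Scheme.stalkClosedPointTo b).hom r)) ∈ k₀
    rw [e4]
    exact ⟨residue _ _, IsLocalRing.ResidueField.map_residue _ _⟩)
  -- the restricted surjection
  let π₀ : sub ((residue C).comp π) k₀ →+* sub (residue C) k₀ :=
    π.restrict (sub ((residue C).comp π) k₀) (sub (residue C) k₀) (fun x hx => hx)
  have hπ₀ : Function.Surjective π₀ := by
    rintro ⟨c, hc⟩
    obtain ⟨c', rfl⟩ := hπ c
    exact ⟨⟨c', hc⟩, rfl⟩
  have hsq : CommRingCat.ofHom π₀ ≫ CommRingCat.ofHom (sub (residue C) k₀).subtype =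
      CommRingCat.ofHom (sub ((residue C).comp π) k₀).subtype ≫ CommRingCat.ofHom π := by
    ext x
    rfl
  have hcomm₀ : Spec.map (CommRingCat.ofHom π₀) ≫ b₀ = a₀ ≫ g := by
    refine epi_SpecMap (CommRingCat.ofHom (sub (residue C) k₀).subtype)
      Subtype.val_injective _ _ ?_
    rw [← Category.assoc, ← Spec.map_comp, hsq, Spec.map_comp, Category.assoc, hb₀, hcomm,
      ← Category.assoc, ha₀]
  obtain ⟨c₀, hc1, hc2⟩ := hT (sub (residue C) k₀) (sub ((residue C).comp π) k₀) π₀ hπ₀ a₀ b₀
    ha₀t hsurj₀ hcomm₀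
  refine ⟨Spec.map (CommRingCat.ofHom (sub ((residue C).comp π) k₀).subtype) ≫ c₀, ?_, ?_⟩
  · rw [← Category.assoc, ← Spec.map_comp, ← hsq, Spec.map_comp, Category.assoc, hc1, ha₀]
  · rw [Category.assoc, hc2, hb₀]

end Groth.Agent.H8.ArtSub
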