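import Mathlib
import Groth.Agent.Lib.Helper8.ArtSub.Core
import Groth.Agent.Lib.Helper7.NilLiftSch
import Groth.Agent.Lib.Helper8.NodeEt.Post

/-!
# Étale morphisms preserve formal versality (helper8, S18017)
-/

set_option autoImplicit false
universe u

open CategoryTheory AlgebraicGeometry IsLocalRing

namespace Groth.Agent.H8.ArtSub

/-- Lifting along a smooth morphism for a surjection of local Artinian rings. -/
theorem exists_lift_smooth {U T : Scheme.{u}} (e : U ⟶ T) [Smooth e]
    (C C' : Type u) [CommRing C] [CommRing C'] [IsLocalRing C] [IsLocalRing C']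
    [IsArtinianRing C'] (π : C' →+* C) (hπ : Function.Surjective π)
    (a : Spec (CommRingCat.of C) ⟶ U) (c' : Spec (CommRingCat.of C') ⟶ T)
    (hcomm : Spec.map (CommRingCat.ofHom π) ≫ c' = a ≫ e) :
    ∃ c : Spec (CommRingCat.of C') ⟶ U,
      Spec.map (CommRingCat.ofHom π) ≫ c = a ∧ c ≫ e = c' := by
  haveI hl3 : IsLocalHom π := IsLocalHom.of_surjective π hπ
  -- affine charts
  obtain ⟨_, ⟨(W : T.Opens), hW : IsAffineOpen W, rfl⟩, htW, -⟩ :=
    T.isBasis_affineOpens.exists_subset_of_mem_open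
      (Set.mem_univ (e (a (closedPoint C)))) isOpen_univ
  obtain ⟨_, ⟨(V : U.Opens), hV : IsAffineOpen V, rfl⟩, huV, hVW⟩ :=
    U.isBasis_affineOpens.exists_subset_of_mem_open
      (show a (closedPoint C) ∈ ((e ⁻¹ᵁ W : U.Opens) : Set U) from htW) (e ⁻¹ᵁ W).2
  haveI : IsAffine ↑V := hV
  haveI : IsAffine ↑W := hW
  -- `a` factors through `V`
  have hrange_a : Set.range a ⊆ Set.range V.ι := by
    rintro _ ⟨x, rfl⟩
    have htop : a ⁻¹ᵁ V = ⊤ := Scheme.preimage_eq_top_of_closedPoint_mem a huV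
    have : x ∈ a ⁻¹ᵁ V := by rw [htop]; trivial
    rw [Scheme.Opens.range_ι]
    exact this
  -- `c'` factors through `W`
  have hpt : (Spec.map (CommRingCat.ofHom π)) (closedPoint C) = closedPoint C' :=
    IsLocalRing.comap_closedPoint π
  have hc'W : c' (closedPoint C') ∈ W := by
    have h1 : c' (closedPoint C') = (Spec.map (CommRingCat.ofHom π) ≫ c') (closedPoint C) := by
      rw [Scheme.Hom.comp_apply, hpt]
    rw [h1, hcomm, Scheme.Hom.comp_apply]
    exact htW
  have hrange_c : Set.range c' ⊆ Set.range W.ι := by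
    rintro _ ⟨x, rfl⟩
    have htop : c' ⁻¹ᵁ W = ⊤ := Scheme.preimage_eq_top_of_closedPoint_mem c' hc'W
    have : x ∈ c' ⁻¹ᵁ W := by rw [htop]; trivial
    rw [Scheme.Opens.range_ι]
    exact this
  set α := IsOpenImmersion.lift V.ι a hrange_a with hα
  set β := IsOpenImmersion.lift W.ι c' hrange_c with hβ
  have hαf : α ≫ V.ι = a := IsOpenImmersion.lift_fac _ _ _
  have hβf : β ≫ W.ι = c' := IsOpenImmersion.lift_fac _ _ _
  haveI : Smooth (e.resLE W V hVW) := IsZariskiLocalAtSource.resLE hVW inferInstance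
  have hthick : AlgSp.thick (Spec.map (CommRingCat.ofHom π)) := by
    refine ⟨IsClosedImmersion.spec_of_surjective _ hπ, ⟨fun x => ?_⟩⟩
    haveI : Subsingleton (PrimeSpectrum C') := inferInstance
    exact ⟨closedPoint C, Subsingleton.elim (α := PrimeSpectrum C') _ _⟩
  have w : Spec.map (CommRingCat.ofHom π) ≫ β = α ≫ e.resLE W V hVW := by
    rw [← cancel_mono W.ι, Category.assoc, Category.assoc, hβf, Scheme.Hom.resLE_comp_ι,
      ← Category.assoc, hαf, hcomm]
  obtain ⟨l, hl1, hl2⟩ := Groth.Agent.H7.NilLiftSch.exists_affine_smooth_lift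
    (e.resLE W V hVW) (Spec.map (CommRingCat.ofHom π)) hthick α β w
  refine ⟨l ≫ V.ι, ?_, ?_⟩
  · rw [← Category.assoc, hl2, hαf]
  · rw [Category.assoc, ← Scheme.Hom.resLE_comp_ι e hVW, ← Category.assoc, hl1, hβf]

theorem etale_versal {S T U : Scheme.{u}} (g : T ⟶ S) (e : U ⟶ T) [Etale e] (u : U)
    (hT : ∀ (C C' : Type u) [CommRing C] [CommRing C'] [IsLocalRing C] [IsLocalRing C']
        [IsArtinianRing C] [IsArtinianRing C'] (π : C' →+* C), Function.Surjective π →
        ∀ (a : Spec (CommRingCat.of C) ⟶ T) (b : Spec (CommRingCat.of C') ⟶ S),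
          a (IsLocalRing.closedPoint C) = e u →
          Function.Surjective (a.residueFieldMap (IsLocalRing.closedPoint C)).hom →
          Spec.map (CommRingCat.ofHom π) ≫ b = a ≫ g →
          ∃ c : Spec (CommRingCat.of C') ⟶ T,
            Spec.map (CommRingCat.ofHom π) ≫ c = a ∧ c ≫ g = b)
    (C C' : Type u) [CommRing C] [CommRing C'] [IsLocalRing C] [IsLocalRing C']
    [IsArtinianRing C] [IsArtinianRing C'] (π : C' →+* C) (hπ : Function.Surjective π)
    (a : Spec (CommRingCat.of C) ⟶ U) (b : Spec (CommRingCat.of C') ⟶ S)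
    (ha : a (IsLocalRing.closedPoint C) = u)
    (hsurj : Function.Surjective (a.residueFieldMap (IsLocalRing.closedPoint C)).hom)
    (hcomm : Spec.map (CommRingCat.ofHom π) ≫ b = a ≫ (e ≫ g)) :
    ∃ c : Spec (CommRingCat.of C') ⟶ U,
      Spec.map (CommRingCat.ofHom π) ≫ c = a ∧ c ≫ (e ≫ g) = b := by
  have ha' : (a ≫ e) (closedPoint C) = e u := by
    rw [Scheme.Hom.comp_apply, ha]
  have hfin : (IsLocalRing.ResidueField.map (Scheme.stalkClosedPointTo (a ≫ e)).hom).Finite := by
    have h1 : IsLocalRing.ResidueField.map (Scheme.stalkClosedPointTo (a ≫ e)).hom =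
        (IsLocalRing.ResidueField.map (Scheme.stalkClosedPointTo a).hom).comp
          (e.residueFieldMap (a (closedPoint C))).hom := by
      refine RingHom.ext (fun x => ?_)
      obtain ⟨r, rfl⟩ := IsLocalRing.residue_surjective x
      have h2 := congrArg (fun ψ => ψ.hom r) (Scheme.stalkClosedPointTo_comp a e)
      show residue C ((Scheme.stalkClosedPointTo (a ≫ e)).hom r) =
        residue C ((Scheme.stalkClosedPointTo a).hom ((e.stalkMap (a (closedPoint C))).hom r))
      exact congrArg (residue C) h2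
    rw [h1]
    refine RingHom.Finite.comp (RingHom.Finite.of_surjective _ (surjective_resMap_of a hsurj)) ?_
    exact Groth.Agent.H8.NodeEtS.finite_residueField e (a (closedPoint C))
  obtain ⟨c', hc1, hc2⟩ := core g (e u) hT C C' π hπ (a ≫ e) b ha' hfin
    (by rw [hcomm, Category.assoc])
  haveI : Smooth e := inferInstance
  obtain ⟨c, hc3, hc4⟩ := exists_lift_smooth e C C' π hπ a c' hc1
  exact ⟨c, hc3, by rw [← Category.assoc, hc4, hc2]⟩

end Groth.Agent.H8.ArtSub
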